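import Groth.Agent.Lib.KrullAkizuki.Basic
import Mathlib.RingTheory.EssentialFiniteness
import Mathlib.RingTheory.Localization.Submodule
import Mathlib.RingTheory.Artinian.Module
import Mathlib.RingTheory.IntegralClosure.IntegrallyClosed
import Mathlib.RingTheory.Localization.Integral
import Mathlib.RingTheory.TensorProduct.Basic
import Mathlib.RingTheory.DiscreteValuationRing.Basic
import Mathlib.RingTheory.HopkinsLevitzki

/-!
# Integral closures after an algebraic extension of the base are noetherian
-/

set_option autoImplicit false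
set_option linter.style.haveILetI false
universe u

open TensorProduct

namespace Groth.Agent.EtAlgClosH7

variable (A B K L : Type u) [CommRing A] [IsDomain A] [CommRing B] [IsDomain B] [Ring.KrullDimLE 1 B]
  [Algebra A B] [Algebra.EssFiniteType A B] [Field K] [Field L] [Algebra A K] [IsFractionRing A K]
  [Algebra B L] [IsFractionRing B L] [Algebra K L] [Algebra A L] [IsScalarTower A K L] [IsScalarTower A B L]
  (K' : Type u) [Field K'] [Algebra K K'] [Algebra A K'] [IsScalarTower A K K'] [Algebra.IsAlgebraic K K']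
  (hA' : IsNoetherianRing (integralClosure A K'))

include K hA' in
/-- A domain generated by `B` and the closure `A'`, sitting in its field of fractions, makes closures noetherian. -/
theorem isNoetherianRing_image {F S : Type u} [Field F] [CommRing S] [Algebra A F] [Algebra B F] [Algebra L F]
    [Algebra K' F] [IsScalarTower A B F] [IsScalarTower A K' F] [IsScalarTower B L F]
    (hgen : ∀ z : F, z ∈ Subring.closure (Set.range (algebraMap L F) ∪ Set.range (algebraMap K' F)))
    (σ : S →+* F) (hσ : Function.Injective σ) (hB : ∀ b, algebraMap B F b ∈ σ.range)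
    (hcl : ∀ x : F, IsIntegral B x → (∃ y : integralClosure A K', algebraMap K' F y = x) → x ∈ σ.range) :
    IsNoetherianRing S := by
  let A' := integralClosure A K'
  let ι : A' →ₐ[A] F := (IsScalarTower.toAlgHom A K' F).comp A'.val
  let ψ : B ⊗[A] A' →ₐ[B] F := Algebra.TensorProduct.lift (Algebra.ofId B F) ι fun _ _ => Commute.all _ _
  let R := ψ.range
  haveI : IsNoetherianRing (B ⊗[A] A') := by
    haveI : IsNoetherianRing A' := hA'
    haveI : IsNoetherianRing (A' ⊗[A] B) := Algebra.EssFiniteType.isNoetherianRing A' _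
    exact isNoetherianRing_of_ringEquiv (A' ⊗[A] B) (Algebra.TensorProduct.comm A A' B).toRingEquiv
  haveI : IsNoetherianRing R := isNoetherianRing_of_surjective (B ⊗[A] A') R ψ.rangeRestrict.toRingHom
    ψ.rangeRestrict_surjective
  have hint' : ∀ y : A', IsIntegral B (algebraMap K' F (y : K')) := fun y =>
    ((y.2 : IsIntegral A (y : K')).map (IsScalarTower.toAlgHom A K' F)).tower_top
  have hRint : ∀ x ∈ R, IsIntegral B x := by
    rintro _ ⟨t, rfl⟩
    induction t with
    | zero => simpa using isIntegral_zero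
    | add x y hx hy => rw [map_add]; exact hx.add hy
    | tmul b y =>
      show IsIntegral B (ψ (b ⊗ₜ y))
      rw [Algebra.TensorProduct.lift_tmul]
      exact (isIntegral_algebraMap (x := b)).mul (hint' y)
  haveI : Algebra.IsIntegral B R := ⟨fun x =>
    (isIntegral_algHom_iff (R.val) Subtype.val_injective).1 (hRint x x.2)⟩
  have hBF : Function.Injective (algebraMap B F) := by
    rw [IsScalarTower.algebraMap_eq B L F]
    exact (algebraMap L F).injective.comp (IsFractionRing.injective B L)
  haveI : Ring.KrullDimLE 1 R := Ring.krullDimLE_one_iff_of_noZeroDivisors.2 fun P hP hprime => by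
    haveI := hprime
    haveI : (P.comap (algebraMap B R)).IsMaximal :=
      Ring.krullDimLE_one_iff_of_noZeroDivisors.1 ‹Ring.KrullDimLE 1 B› _
        (fun h => hP (Ideal.eq_bot_of_comap_eq_bot (R := B) h)) inferInstance
    exact Ideal.isMaximal_of_isIntegral_of_isMaximal_comap P this
  have hR : ∀ z : F, ∃ x y : R, (y : F) ≠ 0 ∧ z * y = x := by
    intro z
    induction hgen z using Subring.closure_induction with
    | mem w hw =>
      rcases hw with ⟨l, rfl⟩ | ⟨k, rfl⟩
      · obtain ⟨b, s, hs, rfl⟩ := IsFractionRing.div_surjective (A := B) l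
        refine ⟨⟨algebraMap B F b, R.algebraMap_mem b⟩, ⟨algebraMap B F s, R.algebraMap_mem s⟩,
          (map_ne_zero_iff _ hBF).2 (nonZeroDivisors.ne_zero hs), ?_⟩
        rw [map_div₀, ← IsScalarTower.algebraMap_apply, ← IsScalarTower.algebraMap_apply]
        exact div_mul_cancel₀ _ ((map_ne_zero_iff _ hBF).2 (nonZeroDivisors.ne_zero hs))
      · obtain ⟨⟨m, hm⟩, hmk⟩ := IsIntegral.exists_multiple_integral_of_isLocalization (nonZeroDivisors A) k
          (Algebra.IsAlgebraic.isAlgebraic (R := K) k).isIntegral
        rw [Submonoid.mk_smul, Algebra.smul_def] at hmk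
        have hm0 : algebraMap A F m ≠ 0 := by
          rw [IsScalarTower.algebraMap_apply A K' F, IsScalarTower.algebraMap_apply A K K']
          exact (map_ne_zero _).2 ((map_ne_zero _).2
            (IsFractionRing.to_map_ne_zero_of_mem_nonZeroDivisors hm))
        refine ⟨⟨algebraMap K' F (algebraMap A K' m * k), ⟨(1 : B) ⊗ₜ (⟨_, hmk⟩ : A'), ?_⟩⟩,
          ⟨algebraMap A F m, ?_⟩, hm0, ?_⟩
        · show ψ _ = _
          rw [Algebra.TensorProduct.lift_tmul, map_one, one_mul]
          rfl
        · rw [IsScalarTower.algebraMap_apply A B F]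
          exact R.algebraMap_mem _
        · show algebraMap K' F k * algebraMap A F m = algebraMap K' F (algebraMap A K' m * k)
          rw [map_mul, ← IsScalarTower.algebraMap_apply, mul_comm]
    | zero => exact ⟨0, 1, one_ne_zero, by simp⟩
    | one => exact ⟨1, 1, one_ne_zero, by simp⟩
    | add v w _ _ hv hw =>
      obtain ⟨x, y, hy, e⟩ := hv
      obtain ⟨x', y', hy', e'⟩ := hw
      refine ⟨x * y' + x' * y, y * y', mul_ne_zero hy hy', ?_⟩
      simp only [MulMemClass.coe_mul, AddMemClass.coe_add]
      rw [← e, ← e']; ring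
    | neg v _ hv =>
      obtain ⟨x, y, hy, e⟩ := hv
      exact ⟨-x, y, hy, by rw [NegMemClass.coe_neg, ← e]; ring⟩
    | mul v w _ _ hv hw =>
      obtain ⟨x, y, hy, e⟩ := hv
      obtain ⟨x', y', hy', e'⟩ := hw
      refine ⟨x * x', y * y', mul_ne_zero hy hy', ?_⟩
      simp only [MulMemClass.coe_mul]
      rw [← e, ← e']; ring
  haveI : FaithfulSMul R F := (faithfulSMul_iff_algebraMap_injective R F).2 Subtype.val_injective
  haveI : IsFractionRing R F := IsFractionRing.of_field R F fun z => by
    obtain ⟨x, y, hy, e⟩ := hR z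
    exact ⟨x, y, eq_div_of_mul_eq hy e⟩
  have hRS : ∀ x ∈ R, x ∈ σ.range := by
    rintro _ ⟨t, rfl⟩
    induction t with
    | zero => exact (map_zero ψ).symm ▸ zero_mem _
    | add x y hx hy => rw [map_add]; exact add_mem hx hy
    | tmul b y =>
      show ψ (b ⊗ₜ y) ∈ σ.range
      rw [Algebra.TensorProduct.lift_tmul]
      exact mul_mem (hB b) (hcl _ (hint' y) ⟨y, rfl⟩)
  let e := RingEquiv.ofBijective σ.rangeRestrict ⟨fun x y h => hσ (congrArg Subtype.val h), σ.rangeRestrict_surjective⟩
  letI : Algebra R S := (e.symm.toRingHom.comp (RingHom.codRestrict R.val.toRingHom σ.range fun x => hRS x x.2)).toAlgebra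
  letI : Algebra S F := σ.toAlgebra
  haveI : IsScalarTower R S F := IsScalarTower.of_algebraMap_eq fun x => by
    show (x : F) = σ (e.symm ⟨x, hRS x x.2⟩)
    exact (congrArg Subtype.val (e.apply_symm_apply ⟨(x : F), hRS x x.2⟩)).symm
  exact KrullAkizuki.isNoetherianRing_of_between (R := R) (K := F) (L := F) S hσ

include hA' in
theorem isNoetherianRing_integralClosure (L' : Type u) [CommRing L'] [IsReduced L'] [Algebra K L'] [Algebra L L']
    [Algebra K' L'] [Algebra B L'] [Algebra A L'] [IsScalarTower A B L'] [IsScalarTower A K' L']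
    [IsScalarTower B L L']
    (q : L ⊗[K] K' →ₐ[K] L') (hq : Function.Surjective q)
    (hqL : ∀ y : L, q (y ⊗ₜ 1) = algebraMap L L' y) (hqK : ∀ z : K', q (1 ⊗ₜ z) = algebraMap K' L' z) :
    IsNoetherianRing (integralClosure B L') := by
  haveI : Algebra.EssFiniteType B L := Algebra.EssFiniteType.of_isLocalization L (nonZeroDivisors B)
  haveI : Algebra.EssFiniteType A L := Algebra.EssFiniteType.comp A B L
  haveI : Algebra.EssFiniteType K L := Algebra.EssFiniteType.of_comp A K L
  haveI : IsNoetherianRing (L ⊗[K] K') := by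
    haveI : IsNoetherianRing (K' ⊗[K] L) := Algebra.EssFiniteType.isNoetherianRing K' _
    exact isNoetherianRing_of_ringEquiv (K' ⊗[K] L) (Algebra.TensorProduct.comm K K' L).toRingEquiv
  haveI : IsNoetherianRing L' := isNoetherianRing_of_surjective (L ⊗[K] K') L' q.toRingHom hq
  haveI : Algebra.IsIntegral L L' := by
    refine ⟨fun z => ?_⟩
    obtain ⟨t, rfl⟩ := hq z
    induction t with
    | zero => simpa using isIntegral_zero
    | add x y hx hy => rw [map_add]; exact hx.add hy
    | tmul l k =>
      rw [show l ⊗ₜ[K] k = (l ⊗ₜ 1) * (1 ⊗ₜ k) by simp, map_mul, hqL]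
      refine isIntegral_algebraMap.mul ?_
      have h1 : IsIntegral K k := (Algebra.IsAlgebraic.isAlgebraic (R := K) k).isIntegral
      have h2 : IsIntegral L ((1 : L) ⊗ₜ[K] k) :=
        (h1.map (Algebra.TensorProduct.includeRight : K' →ₐ[K] L ⊗[K] K')).tower_top
      let qL : L ⊗[K] K' →ₐ[L] L' := { q with commutes' := fun y => hqL y }
      exact h2.map qL
  haveI : Ring.KrullDimLE 0 L' := Ring.krullDimLE_zero_iff.2 fun P hP => by
    haveI := hP
    refine Ideal.isMaximal_of_isIntegral_of_isMaximal_comap (R := L) P ?_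
    rw [(Ideal.eq_bot_or_top (P.comap (algebraMap L L'))).resolve_right (Ideal.IsPrime.comap _).ne_top]
    exact Ideal.bot_isMaximal
  haveI : IsArtinianRing L' := isArtinianRing_iff_krullDimLE_zero.2 inferInstance
  let B' := integralClosure B L'
  let J : MaximalSpectrum L' → Ideal B' := fun m => m.asIdeal.comap B'.val.toRingHom
  have hJ : ∀ m, IsNoetherian B' (B' ⧸ J m) := fun m => by
    let F := L' ⧸ m.asIdeal
    letI : Field F := Ideal.Quotient.field m.asIdeal
    let σ : B' ⧸ J m →+* F := Ideal.quotientMap m.asIdeal B'.val.toRingHom le_rfl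
    haveI : IsNoetherianRing (B' ⧸ J m) := by
      refine isNoetherianRing_image A B K L K' hA' (F := F) ?_ σ (Ideal.quotientMap_injective) (fun b => ?_) fun x hx h => ?_
      · intro z
        obtain ⟨z, rfl⟩ := Ideal.Quotient.mk_surjective z
        obtain ⟨t, rfl⟩ := hq z
        induction t with
        | zero => rw [map_zero, map_zero]; exact zero_mem _
        | add x y hx hy => rw [map_add, map_add]; exact add_mem hx hy
        | tmul l k =>
          rw [show l ⊗ₜ[K] k = (l ⊗ₜ 1) * (1 ⊗ₜ k) by simp, map_mul, hqL, hqK, map_mul]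
          exact mul_mem (Subring.subset_closure (Or.inl ⟨l, rfl⟩)) (Subring.subset_closure (Or.inr ⟨k, rfl⟩))
      · exact ⟨Ideal.Quotient.mk (J m) ⟨algebraMap B L' b, B'.algebraMap_mem b⟩, rfl⟩
      · obtain ⟨y, rfl⟩ := h
        exact ⟨Ideal.Quotient.mk (J m) ⟨algebraMap K' L' (y : K'),
          ((y.2 : IsIntegral A (y : K')).map (IsScalarTower.toAlgHom A K' L')).tower_top⟩, rfl⟩
    haveI : RingHomSurjective (Ideal.Quotient.mk (J m)) := ⟨Ideal.Quotient.mk_surjective⟩
    let l : (B' ⧸ J m) →ₛₗ[Ideal.Quotient.mk (J m)] (B' ⧸ J m) :=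
      { toFun := id
        map_add' := fun _ _ => rfl
        map_smul' := fun r x => by
          obtain ⟨y, rfl⟩ := Ideal.Quotient.mk_surjective x
          rfl }
    exact (LinearMap.isNoetherian_iff_of_bijective l Function.bijective_id).2 inferInstance
  haveI := hJ
  haveI : Finite (MaximalSpectrum L') := inferInstance
  refine isNoetherian_of_injective (R := B') (LinearMap.pi fun m : MaximalSpectrum L' => (J m).mkQ) ?_
  rw [injective_iff_map_eq_zero]
  intro x hx
  have hmem : (x : L') ∈ nilradical L' := by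
    rw [nilradical_eq_sInf, Submodule.mem_sInf]
    intro P hP
    haveI : Ideal.IsPrime P := hP
    have h := (Submodule.Quotient.mk_eq_zero (J ⟨P, Ideal.IsPrime.isMaximal' hP⟩)).1
      (congrFun hx ⟨P, Ideal.IsPrime.isMaximal' hP⟩)
    exact h
  rw [nilradical_eq_zero, Ideal.zero_eq_bot, Ideal.mem_bot] at hmem
  exact Subtype.ext hmem

end Groth.Agent.EtAlgClosH7
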